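import Groth.Agent.RedCentralExt.TorsionPairs
import Groth.Agent.RedQuot.Basic
import Groth.Agent.FpqcDescLib.Closed
import Groth.Agent.GrpSchLib.MultTypeComm
import Groth.Agent.GrpSchLib.CharZeroPts
import Groth.Agent.MorLib.BddFib

/-!
# Central extensions of tori are commutative

The commutator of a central extension with commutative quotient descends to a bilinear morphism on the quotient;
when the quotient is a torus it is trivial on pairs of torsion points, hence trivial.
-/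

universe u

open CategoryTheory CategoryTheory.Limits MonoidalCategory CartesianMonoidalCategory MonObj GrpObj AlgebraicGeometry
open Groth.Agent.FpqcDescLib

namespace Groth.Agent.RedCentralExt

set_option backward.isDefEq.respectTransparency.types false

section Group

variable {Γ : Type*} [Group Γ]

/-- The commutator. -/
def com (a b : Γ) : Γ := a * b * a⁻¹ * b⁻¹

theorem com_mul_central_left (a b c : Γ) (hc : ∀ x, c * x = x * c) : com (a * c) b = com a b := by
  have h1 : a * c * b = a * b * c := by rw [_root_.mul_assoc, hc b, ← _root_.mul_assoc]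
  simp only [com, _root_.mul_inv_rev, h1, ← _root_.mul_assoc, mul_inv_cancel_right]

theorem com_mul_central_right (a b d : Γ) (hd : ∀ x, d * x = x * d) : com a (b * d) = com a b := by
  have h1 : a * (b * d) * a⁻¹ = a * b * a⁻¹ * d := by
    rw [← _root_.mul_assoc, _root_.mul_assoc (a * b), hd a⁻¹, ← _root_.mul_assoc]
  simp only [com, _root_.mul_inv_rev]
  rw [h1, ← _root_.mul_assoc, mul_inv_cancel_right]

theorem com_mul_left (a a' b : Γ) (h : ∀ x, com a' b * x = x * com a' b) :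
    com (a * a') b = com a' b * com a b := by
  rw [show com (a * a') b = a * com a' b * (b * a⁻¹ * b⁻¹) by simp [com, _root_.mul_assoc], ← h a]
  simp [com, _root_.mul_assoc]

theorem com_mul_right (a b b' : Γ) (h : ∀ x, com a b' * x = x * com a b') :
    com a (b * b') = com a b * com a b' := by
  rw [show com a (b * b') = com a b * (b * com a b' * b⁻¹) by simp [com, _root_.mul_assoc], ← h b]
  simp [_root_.mul_assoc]

theorem eq_of_com_eq_one {a b : Γ} (h : com a b = 1) : a * b = b * a := by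
  have := congrArg (· * (b * a)) h
  simpa [com, _root_.mul_assoc] using this

end Group

section Points

variable {S : Scheme.{u}} {G : Over S} [GrpObj G]

theorem comp_com {X Y : Over S} (k : Y ⟶ X) (a b : X ⟶ G) : k ≫ com a b = com (k ≫ a) (k ≫ b) := by
  simp only [com, MonObj.comp_mul, GrpObj.comp_inv]

theorem com_comp {X G' : Over S} [GrpObj G'] (q : G ⟶ G') [IsMonHom q] (a b : X ⟶ G) :
    com a b ≫ q = com (a ≫ q) (b ≫ q) := by
  simp only [com, MonObj.mul_comp, GrpObj.inv_comp]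

variable {Z G' : Over S} [GrpObj G'] {z : Z ⟶ G} {q : G ⟶ G'} [IsMonHom q] (hq : RedSub.IsQuotient z q)
  (hz : ∀ (X : Over S) (x : X ⟶ Z) (g : X ⟶ G), (x ≫ z) * g = g * (x ≫ z))
  (hc : ∀ (X : Over S) (a b : X ⟶ G'), a * b = b * a)
include hq hz hc

theorem com_central {X : Over S} (a b : X ⟶ G) (g : X ⟶ G) : com a b * g = g * com a b := by
  have h1 : (1 : X ⟶ G) ≫ q = com a b ≫ q := by
    rw [com_comp, MonObj.one_comp, com, hc X (a ≫ q), mul_inv_cancel_right, mul_inv_cancel]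
  obtain ⟨x, hx⟩ := RedQuot.exists_mul_eq hq h1
  rw [← hx, show (1 : X ⟶ G) * (x ≫ z) = x ≫ z from _root_.one_mul _]
  exact hz X x g

theorem exists_descend_com : ∃ b : G' ⊗ G' ⟶ G,
    ∀ (X : Over S) (x y : X ⟶ G), lift (x ≫ q) (y ≫ q) ≫ b = com x y := by
  have hcov : Covers (q ▷ G ≫ G' ◁ q).left := by
    rw [Over.comp_left]
    exact (covers_whiskerRight (RedQuot.covers hq) G).comp (covers_whiskerLeft (RedQuot.covers hq) G')
  obtain ⟨b, hb, -⟩ := hcov.over_desc (com (fst G G) (snd G G)) fun T u v huv => by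
    rw [comp_com, comp_com]
    have h1 : (u ≫ fst G G) ≫ q = (v ≫ fst G G) ≫ q := by
      have := congrArg (· ≫ fst G' G') huv
      simpa using this
    have h2 : (u ≫ snd G G) ≫ q = (v ≫ snd G G) ≫ q := by
      have := congrArg (· ≫ snd G' G') huv
      simpa using this
    obtain ⟨x₁, hx₁⟩ := RedQuot.exists_mul_eq hq h1
    obtain ⟨x₂, hx₂⟩ := RedQuot.exists_mul_eq hq h2
    rw [← hx₁, ← hx₂, com_mul_central_left _ _ _ (hz T x₁), com_mul_central_right _ _ _ (hz T x₂)]
  refine ⟨b, fun X x y => ?_⟩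
  have h3 : lift (x ≫ q) (y ≫ q) = lift x y ≫ q ▷ G ≫ G' ◁ q := by
    apply CartesianMonoidalCategory.hom_ext <;> simp
  rw [h3, Category.assoc, hb, comp_com, lift_fst, lift_snd]

theorem bilinear {b : G' ⊗ G' ⟶ G} (hb : ∀ (X : Over S) (x y : X ⟶ G), lift (x ≫ q) (y ≫ q) ≫ b = com x y)
    {X : Over S} (x x' y : X ⟶ G') :
    lift (x * x') y ≫ b = (lift x' y ≫ b) * (lift x y ≫ b) ∧
    lift y (x * x') ≫ b = (lift y x ≫ b) * (lift y x' ≫ b) := by
  obtain ⟨X₁, c₁, a, h₁, e₁⟩ := RedQuot.exists_lift hq x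
  obtain ⟨X₂, c₂, a', h₂, e₂⟩ := RedQuot.exists_lift hq (c₁ ≫ x')
  obtain ⟨X₃, c₃, w, h₃, e₃⟩ := RedQuot.exists_lift hq (c₂ ≫ c₁ ≫ y)
  have hcov : Covers (c₃ ≫ c₂ ≫ c₁).left := by
    rw [Over.comp_left, Over.comp_left]
    exact h₃.comp (h₂.comp h₁)
  let A := c₃ ≫ c₂ ≫ a
  let A' := c₃ ≫ a'
  have hA : (c₃ ≫ c₂ ≫ c₁) ≫ x = A ≫ q := by simp only [A, Category.assoc, e₁]
  have hA' : (c₃ ≫ c₂ ≫ c₁) ≫ x' = A' ≫ q := by simp only [A', Category.assoc, e₂]
  have hW : (c₃ ≫ c₂ ≫ c₁) ≫ y = w ≫ q := by rw [Category.assoc, Category.assoc, ← e₃]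
  have := hcov.over_epi
  generalize c₃ ≫ c₂ ≫ c₁ = c at hA hA' hW this
  have e : c ≫ (x * x') = (A * A') ≫ q := by rw [MonObj.comp_mul, hA, hA', MonObj.mul_comp]
  refine ⟨?_, ?_⟩ <;> rw [← cancel_epi c]
  · rw [MonObj.comp_mul, ← Category.assoc c, ← Category.assoc c, ← Category.assoc c, comp_lift, comp_lift,
      comp_lift, e, hA, hA', hW, hb, hb, hb]
    exact com_mul_left _ _ _ (com_central hq hz hc A' w)
  · rw [MonObj.comp_mul, ← Category.assoc c, ← Category.assoc c, ← Category.assoc c, comp_lift, comp_lift,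
      comp_lift, e, hA, hA', hW, hb, hb, hb]
    exact com_mul_right _ _ _ (com_central hq hz hc w A')

end Points

section Torus

variable {k : Type u} [Field k] {G G' Z : Over (Spec (CommRingCat.of k))} [GrpObj G] [GrpObj G']

theorem exists_root {K : Type u} [Field K] [IsAlgClosed K] {S : Scheme.{u}} {T : Over S} [GrpObj T]
    (hT : Red.IsTorus T) (g : Spec (CommRingCat.of K) ⟶ S) (y : Over.mk g ⟶ T) {n : ℕ} (hn : 0 < n) :
    ∃ y' : Over.mk g ⟶ T, y' ^ n = y := by
  obtain ⟨r, ⟨e⟩⟩ := TorusQI.exists_split_geom hT g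
  haveI : IsMonHom e.inv.hom.hom := e.inv.hom.isMonHom_hom
  let Y₀ := HomRepLib.spS (𝟙 (Spec (CommRingCat.of K)))
  let c₀ : Over.mk g ≅ (Over.map g).obj Y₀ := Over.isoMk (Iso.refl _) (by show 𝟙 _ ≫ 𝟙 _ ≫ g = g; simp)
  let Φ : (Y₀ ⟶ Red.DS _ (Fin r → ℤ)) → (Over.mk g ⟶ T) :=
    fun x => c₀.hom ≫ DSPtsLib.theta g (x ≫ e.inv.hom.hom)
  have hmul : ∀ a b, Φ (a * b) = Φ a * Φ b := fun a b => by
    simp only [Φ]
    rw [MonObj.mul_comp, DSPtsLib.theta_mul, MonObj.comp_mul]
  have hone : Φ 1 = 1 := mul_eq_left.mp ((hmul 1 1).symm.trans (congrArg Φ TorusQI.one_mul_one_pt))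
  obtain ⟨a, ha⟩ := (DSPtsLib.theta_bijective g).2 (c₀.inv ≫ y)
  have hy : Φ (a ≫ e.hom.hom.hom) = y := by
    simp only [Φ, Category.assoc]
    rw [show e.hom.hom.hom ≫ e.inv.hom.hom = 𝟙 _ from congrArg (fun f => f.hom.hom) e.hom_inv_id,
      Category.comp_id, ha, Iso.hom_inv_id_assoc]
  set x := a ≫ e.hom.hom.hom with hx
  have hu : ∀ m, IsUnit (HomRepLib.evB x m) := fun m => IsUnit.of_mul_eq_one (HomRepLib.evB x (-m)) (by
    rw [HomRepLib.evB, HomRepLib.evB, ← map_mul, ← HomRepLib.ev_add, add_neg_cancel, HomRepLib.ev_zero, map_one])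
  choose z hz using fun i : Fin r => IsAlgClosed.exists_pow_nat_eq (HomRepLib.evB x (Pi.single i 1)) hn
  have hz0 : ∀ i, z i ≠ 0 := fun i h0 => (hu (Pi.single i 1)).ne_zero (by rw [← hz, h0, zero_pow hn.ne'])
  let χ : Multiplicative (Fin r → ℤ) →* K :=
    { toFun := fun v => ∏ i, (z i) ^ (Multiplicative.toAdd v i)
      map_one' := by simp
      map_mul' := fun v w => by
        rw [← Finset.prod_mul_distrib]
        exact Finset.prod_congr rfl fun i _ => zpow_add₀ (hz0 i) _ _ }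
  obtain ⟨x', hx'⟩ := HomRepLib.exists_evB (S := Spec (CommRingCat.of K)) (𝟙 _) χ
  let lhs : Multiplicative (Fin r → ℤ) →* K :=
    { toFun := fun v => HomRepLib.evB x (Multiplicative.toAdd v)
      map_one' := by simp [HomRepLib.evB, HomRepLib.ev_zero]
      map_mul' := fun v w => by
        show HomRepLib.evB x (Multiplicative.toAdd v + Multiplicative.toAdd w) = _
        rw [HomRepLib.evB, HomRepLib.ev_add, map_mul]
        rfl }
  have hlhs : ∀ v : Fin r → ℤ, HomRepLib.evB x v = ∏ i, (HomRepLib.evB x (Pi.single i 1)) ^ v i := by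
    intro v
    let F : Multiplicative (Fin r → ℤ) →* Kˣ := lhs.toHomUnits
    have hF : ∀ u, ((F (Multiplicative.ofAdd u)) : K) = HomRepLib.evB x u := fun u => rfl
    have hv : Multiplicative.ofAdd v = ∏ i, (Multiplicative.ofAdd (Pi.single i (1 : ℤ) : Fin r → ℤ)) ^ v i := by
      conv_lhs => rw [← Finset.univ_sum_single v]
      rw [ofAdd_sum]
      exact Finset.prod_congr rfl fun i _ => by rw [← ofAdd_zsmul, ← Pi.single_smul, zsmul_one, Int.cast_id]
    rw [← hF v, hv, map_prod, Units.coe_prod]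
    exact Finset.prod_congr rfl fun i _ => by rw [map_zpow, Units.val_zpow_eq_zpow_val, hF]
  refine ⟨Φ x', ?_⟩
  have hpow : ∀ m : ℕ, Φ (x' ^ m) = Φ x' ^ m := fun m => by
    induction m with
    | zero => rw [pow_zero, pow_zero, hone]
    | succ m ih => rw [pow_succ, pow_succ, hmul, ih]
  rw [← hy, ← hpow]
  congr 1
  refine HomRepLib.evB_ext fun v => ?_
  rw [evB_pow, hx', hlhs]
  show (∏ i, z i ^ v i) ^ n = _
  rw [← Finset.prod_pow]
  exact Finset.prod_congr rfl fun i _ => by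
    rw [← hz, ← zpow_natCast, ← zpow_mul, ← zpow_natCast (z i) n, ← zpow_mul, _root_.mul_comm]

theorem comm_of_central_quotient_torus {z : Z ⟶ G} {q : G ⟶ G'} [IsMonHom q] (hq : RedSub.IsQuotient z q)
    (hz : ∀ (X : Over (Spec (CommRingCat.of k))) (x : X ⟶ Z) (g : X ⟶ G), (x ≫ z) * g = g * (x ≫ z))
    (hT : Red.IsTorus G') (X : Over (Spec (CommRingCat.of k))) (g h : X ⟶ G) : g * h = h * g := by
  have hc : ∀ (X : Over (Spec (CommRingCat.of k))) (a b : X ⟶ G'), a * b = b * a := fun X a b =>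
    GrpSchLib.MultTypeComm.points_comm (TorusQI.isMultTypeFT_of_isTorus hT) a b
  obtain ⟨b, hb⟩ := exists_descend_com hq hz hc
  haveI : IsSeparated G.hom := GrpSchLib.CharZeroPts.isSeparated_grp G
  let K := AlgebraicClosure k
  let σ : Spec (CommRingCat.of K) ⟶ Spec (CommRingCat.of k) := Spec.map (CommRingCat.ofHom (algebraMap k K))
  have key : snd (Over.mk σ) (G' ⊗ G') ≫ b = 1 := by
    refine eq_of_torsion_pairs hT σ _ _ fun x y n hn hx hy => ?_
    rw [MonObj.comp_one, lift_snd_assoc]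
    obtain ⟨y', hy'⟩ := exists_root hT σ y hn
    have hl : ∀ p p' w : Over.mk σ ⟶ G', lift (p * p') w ≫ b = (lift p' w ≫ b) * (lift p w ≫ b) :=
      fun p p' w => (bilinear hq hz hc hb p p' w).1
    have hr : ∀ p p' w : Over.mk σ ⟶ G', lift w (p * p') ≫ b = (lift w p ≫ b) * (lift w p' ≫ b) :=
      fun p p' w => (bilinear hq hz hc hb p p' w).2
    have hl1 : ∀ w, lift (1 : Over.mk σ ⟶ G') w ≫ b = 1 := fun w =>
      mul_eq_left.mp ((hl 1 1 w).symm.trans (congrArg (fun t => lift t w ≫ b) TorusQI.one_mul_one_pt))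
    have hr1 : ∀ w, lift w (1 : Over.mk σ ⟶ G') ≫ b = 1 := fun w =>
      mul_eq_left.mp ((hr 1 1 w).symm.trans (congrArg (fun t => lift w t ≫ b) TorusQI.one_mul_one_pt))
    have hrp : ∀ m : ℕ, lift x (y' ^ m) ≫ b = (lift x y' ≫ b) ^ m := fun m => by
      induction m with
      | zero => rw [pow_zero, pow_zero, hr1]
      | succ m ih => rw [pow_succ, pow_succ, hr, ih]
    have hlp : ∀ m : ℕ, lift (x ^ m) y' ≫ b = (lift x y' ≫ b) ^ m := fun m => by
      induction m with
      | zero => rw [pow_zero, pow_zero, hl1]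
      | succ m ih => rw [pow_succ, pow_succ', hl, ih]
    rw [← hy', hrp, ← hlp, hx, hl1]
  have hcov : Covers (snd (Over.mk σ) (G' ⊗ G')).left := by
    haveI : Surjective σ := ⟨fun s => ⟨IsLocalRing.closedPoint K,
      @Subsingleton.elim ↥(Spec (CommRingCat.of k)) inferInstance _ _⟩⟩
    haveI : Flat σ := MorLib.BF.flat_to_field (Field.toIsField k) σ
    refine (covers_of_hcov σ ⟨_, σ, 𝟙 _, Category.id_comp _, inferInstance, inferInstance, fun V hV =>
      ⟨σ ⁻¹ᵁ V, σ.isCompact_preimage hV.isCompact, ?_⟩⟩).pullback (G' ⊗ G').hom _ _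
      (IsPullback.of_hasPullback σ (G' ⊗ G').hom).flip
    exact Set.image_preimage_eq _ σ.surjective
  have hb1 : b = 1 := by
    have := hcov.over_epi
    rw [← cancel_epi (snd (Over.mk σ) (G' ⊗ G')), key, MonObj.comp_one]
  refine eq_of_com_eq_one ?_
  rw [← hb X g h, hb1, MonObj.comp_one]

end Torus

end Groth.Agent.RedCentralExt
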