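import Groth.Agent.TorusQI.Geom
import Groth.Agent.TorusQI.TorsionChar
import Groth.Agent.DSPtsLib.Basic
import Groth.Agent.HomRepLib.DiagHom
import Mathlib.RingTheory.Polynomial.Cyclotomic.Roots
import Mathlib.LinearAlgebra.LinearIndependent.Basic

/-!
# Pairs of torsion points of a torus are schematically dense

Two morphisms from the square of a torus to a separated scheme agree as soon as they agree on all pairs of points of
finite order with values in an algebraically closed field.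
-/

universe u

open CategoryTheory CategoryTheory.Limits MonoidalCategory CartesianMonoidalCategory MonObj GrpObj AlgebraicGeometry
open Groth.Agent.HomRepLib Groth.Agent.DSPtsLib

namespace Groth.Agent.RedCentralExt

set_option backward.isDefEq.respectTransparency.types false

section Sep

variable {K : Type u} [Field K] [IsAlgClosed K]

theorem exists_pair_char {r : ℕ} {N : (Fin r → ℤ) × (Fin r → ℤ)} (hN : N ≠ 0) :
    ∃ χ : Multiplicative ((Fin r → ℤ) × (Fin r → ℤ)) →* Kˣ, (∃ n : ℕ, 0 < n ∧ χ ^ n = 1) ∧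
      χ (Multiplicative.ofAdd N) ≠ 1 := by
  obtain ⟨p, hp⟩ : ∃ p : ((Fin r → ℤ) × (Fin r → ℤ)) →+ ℤ, p N ≠ 0 := by
    by_contra h
    push Not at h
    exact hN (Prod.ext (funext fun i => h ((Pi.evalAddMonoidHom _ i).comp (AddMonoidHom.fst _ _)))
      (funext fun i => h ((Pi.evalAddMonoidHom _ i).comp (AddMonoidHom.snd _ _))))
  obtain ⟨q, hq, hqp⟩ := Nat.exists_infinite_primes (max ((p N).natAbs + 1) (ringChar K + 1))
  have hq0 : NeZero (q : K) := ⟨fun h => by
    have h1 := (ringChar.spec K q).mp h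
    rcases hqp.eq_one_or_self_of_dvd _ h1 with h2 | h2
    · exact CharP.ringChar_ne_one h2
    · omega⟩
  obtain ⟨ζ, hζ⟩ := IsAlgClosed.exists_root (Polynomial.cyclotomic q K)
    (Polynomial.degree_cyclotomic_pos q K hqp.pos).ne'
  have hprim : IsPrimitiveRoot ζ q := Polynomial.isRoot_cyclotomic_iff.mp hζ
  let z : Kˣ := Units.mk0 ζ (hprim.ne_zero hqp.ne_zero)
  have hz : z ^ q = 1 := Units.ext (by simpa [z] using hprim.pow_eq_one)
  refine ⟨(zpowersHom Kˣ z).comp (AddMonoidHom.toMultiplicative p), ⟨q, hqp.pos, ?_⟩, fun h => ?_⟩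
  · refine MonoidHom.ext fun m => ?_
    show (z ^ p (Multiplicative.toAdd m)) ^ q = 1
    rw [← zpow_natCast, ← zpow_mul, _root_.mul_comm, zpow_mul, zpow_natCast, hz, one_zpow]
  · have h1 : z ^ p N = 1 := h
    have hz' : IsPrimitiveRoot z q := IsPrimitiveRoot.coe_units_iff.mp hprim
    have h2 := Int.natAbs_dvd_natAbs.mpr ((hz'.zpow_eq_one_iff_dvd _).mp h1)
    rw [Int.natAbs_natCast] at h2
    have h3 := Nat.le_of_dvd (Int.natAbs_pos.mpr hp) h2
    omega

theorem eq_zero_of_evals {r : ℕ} (f : MonoidAlgebra K (Multiplicative ((Fin r → ℤ) × (Fin r → ℤ))))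
    (h : ∀ χ : Multiplicative ((Fin r → ℤ) × (Fin r → ℤ)) →* Kˣ, (∃ n : ℕ, 0 < n ∧ χ ^ n = 1) →
      MonoidAlgebra.lift K K _ ((Units.coeHom K).comp χ) f = 0) : f = 0 := by
  let Q := CommGroup.torsion (Multiplicative ((Fin r → ℤ) × (Fin r → ℤ)) →* Kˣ)
  let ev : Multiplicative ((Fin r → ℤ) × (Fin r → ℤ)) → (Q →* K) := fun m =>
    (Units.coeHom K).comp ((MonoidHom.eval m).comp Q.subtype)
  have hev : Function.Injective ev := fun m m' hm => by
    by_contra hne
    have hN : Multiplicative.toAdd (m / m') ≠ 0 := fun h0 => hne (div_eq_one.mp (toAdd_eq_zero.mp h0))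
    obtain ⟨χ, ⟨n, hn, hχ⟩, h1⟩ := exists_pair_char (K := K) hN
    have hmem : χ ∈ Q := isOfFinOrder_iff_pow_eq_one.mpr ⟨n, hn, hχ⟩
    have h2 : χ m = χ m' := Units.ext (DFunLike.congr_fun hm (⟨χ, hmem⟩ : Q))
    exact h1 (by rw [ofAdd_toAdd, map_div, h2, div_self'])
  have hli := (linearIndependent_monoidHom Q K).comp ev hev
  have h0 : Finsupp.linearCombination K ((fun φ : Q →* K => (φ : Q → K)) ∘ ev) f.coeff = 0 := by
    funext χ
    rw [Finsupp.linearCombination_apply, Finsupp.sum, Finset.sum_apply]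
    have h3 := h χ.1 (isOfFinOrder_iff_pow_eq_one.mp χ.2)
    rw [MonoidAlgebra.lift_apply, Finsupp.sum] at h3
    exact h3
  exact MonoidAlgebra.coeff_injective (linearIndependent_iff.mp hli _ h0)

end Sep

variable {S : Scheme.{u}} {K : Type u} [Field K] [IsAlgClosed K]

theorem ext_of_evals (g : Spec (CommRingCat.of K) ⟶ S) {r : ℕ} {Z : Over S} [IsSeparated Z.hom]
    (a c : (Over.map g).obj (spS (Spec.map (CommRingCat.ofHom
      (algebraMap K (MonoidAlgebra K (Multiplicative ((Fin r → ℤ) × (Fin r → ℤ))))))) ) ⟶ Z)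
    (h : ∀ χ : Multiplicative ((Fin r → ℤ) × (Fin r → ℤ)) →* Kˣ, (∃ n : ℕ, 0 < n ∧ χ ^ n = 1) →
      Spec.map (CommRingCat.ofHom (MonoidAlgebra.lift K K _ ((Units.coeHom K).comp χ) : _ →+* K)) ≫ a.left =
      Spec.map (CommRingCat.ofHom (MonoidAlgebra.lift K K _ ((Units.coeHom K).comp χ) : _ →+* K)) ≫ c.left) :
    a = c := by
  haveI : IsClosedImmersion (lift (𝟙 Z) (𝟙 Z)).left :=
    inferInstanceAs (IsClosedImmersion (pullback.diagonal Z.hom))
  let B : CommRingCat.{u} := CommRingCat.of (MonoidAlgebra K (Multiplicative ((Fin r → ℤ) × (Fin r → ℤ))))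
  let w : Spec B ⟶ (Z ⊗ Z).left := (lift a c).left
  let e : pullback w (lift (𝟙 Z) (𝟙 Z)).left ⟶ Spec B := pullback.fst w (lift (𝟙 Z) (𝟙 Z)).left
  haveI : IsClosedImmersion e := MorphismProperty.pullback_fst _ _ inferInstance
  obtain ⟨I, ε, hεe⟩ := IsClosedImmersion.Spec_iff.mp ‹IsClosedImmersion e›
  have hI : I = ⊥ := by
    refine eq_bot_iff.mpr fun f hf => eq_zero_of_evals f fun χ hχ => ?_
    let σ : Spec (CommRingCat.of K) ⟶ Spec B :=
      Spec.map (CommRingCat.ofHom (MonoidAlgebra.lift K K _ ((Units.coeHom K).comp χ) : _ →+* K))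
    have hσ : σ ≫ w = (σ ≫ a.left) ≫ (lift (𝟙 Z) (𝟙 Z)).left := by
      apply pullback.hom_ext
      · show (σ ≫ w) ≫ (fst Z Z).left = ((σ ≫ a.left) ≫ (lift (𝟙 Z) (𝟙 Z)).left) ≫ (fst Z Z).left
        simp only [w, Category.assoc, ← Over.comp_left, lift_fst]
        rw [Category.comp_id]
      · show (σ ≫ w) ≫ (snd Z Z).left = ((σ ≫ a.left) ≫ (lift (𝟙 Z) (𝟙 Z)).left) ≫ (snd Z Z).left
        simp only [w, Category.assoc, ← Over.comp_left, lift_snd]
        rw [Category.comp_id]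
        exact (h χ hχ).symm
    obtain ⟨t, ht⟩ : ∃ t, t ≫ e = σ := ⟨pullback.lift σ (σ ≫ a.left) hσ, pullback.lift_fst _ _ _⟩
    rw [hεe, ← Category.assoc, ← Spec.map_preimage (t ≫ ε.hom), ← Spec.map_comp] at ht
    have h2 := congrArg (fun φ => φ.hom f) (Spec.map_inj.mp ht)
    simp only [CommRingCat.hom_comp, CommRingCat.hom_ofHom, RingHom.comp_apply] at h2
    rw [Ideal.Quotient.eq_zero_iff_mem.mpr hf, map_zero] at h2
    exact h2.symm
  haveI : IsIso (CommRingCat.ofHom (Ideal.Quotient.mk I) : B ⟶ CommRingCat.of (B ⧸ I)) := by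
    rw [ConcreteCategory.isIso_iff_bijective]
    refine ⟨?_, Ideal.Quotient.mk_surjective⟩
    show Function.Injective (Ideal.Quotient.mk I)
    rw [RingHom.injective_iff_ker_eq_bot, Ideal.mk_ker, hI]
  haveI : IsIso e := by rw [hεe]; infer_instance
  have h1 : w = (inv e ≫ pullback.snd w (lift (𝟙 Z) (𝟙 Z)).left) ≫ (lift (𝟙 Z) (𝟙 Z)).left := by
    rw [Category.assoc, ← pullback.condition]
    exact (IsIso.inv_hom_id_assoc e w).symm
  apply Over.OverMorphism.ext
  have hf := congrArg (· ≫ (fst Z Z).left) h1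
  have hg := congrArg (· ≫ (snd Z Z).left) h1
  simp only [w, Category.assoc, ← Over.comp_left, lift_fst, lift_snd] at hf hg
  exact hf.trans hg.symm

theorem evB_pow {M : Type} [AddCommGroup M] {B : Type u} [CommRing B] {U : Scheme.{u}}
    {j : Spec (CommRingCat.of B) ⟶ U} (x : spS j ⟶ Red.DS U M) (m : M) (n : ℕ) : evB (x ^ n) m = evB x m ^ n := by
  induction n with
  | zero => rw [pow_zero, pow_zero, evB, ev_one, map_one]
  | succ n ih => rw [pow_succ, pow_succ, evB, ev_mul, map_mul]; exact congrArg (· * evB x m) ih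

/-- Two morphisms from the square of a torus to a separated scheme which agree on all pairs of points of finite
order over an algebraically closed field agree. -/
theorem eq_of_torsion_pairs {T Z : Over S} [GrpObj T] (hT : Red.IsTorus T) [IsSeparated Z.hom]
    (g : Spec (CommRingCat.of K) ⟶ S) (u v : Over.mk g ⊗ (T ⊗ T) ⟶ Z)
    (h : ∀ (x y : Over.mk g ⟶ T) (n : ℕ), 0 < n → x ^ n = 1 → y ^ n = 1 →
      lift (𝟙 _) (lift x y) ≫ u = lift (𝟙 _) (lift x y) ≫ v) : u = v := by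
  obtain ⟨r, ⟨e⟩⟩ := TorusQI.exists_split_geom hT g
  haveI : IsMonHom e.inv.hom.hom := e.inv.hom.isMonHom_hom
  let Φ : ∀ {Y : Over (Spec (CommRingCat.of K))}, (Y ⟶ Red.DS _ (Fin r → ℤ)) → ((Over.map g).obj Y ⟶ T) :=
    fun {Y} x => theta g (x ≫ e.inv.hom.hom)
  have hΦmul : ∀ {Y} (x y : Y ⟶ Red.DS _ (Fin r → ℤ)), Φ (x * y) = Φ x * Φ y := fun x y => by
    simp only [Φ]
    rw [MonObj.mul_comp, theta_mul]
  have hΦone : ∀ {Y}, Φ (1 : Y ⟶ Red.DS _ (Fin r → ℤ)) = 1 := fun {Y} =>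
    mul_eq_left.mp ((hΦmul (1 : Y ⟶ _) 1).symm.trans (congrArg Φ TorusQI.one_mul_one_pt))
  have hΦpow : ∀ {Y} (x : Y ⟶ Red.DS _ (Fin r → ℤ)) (n : ℕ), Φ (x ^ n) = Φ x ^ n := fun x n => by
    induction n with
    | zero => rw [pow_zero, pow_zero, hΦone]
    | succ n ih => rw [pow_succ, pow_succ, hΦmul, ih]
  have hΦnat : ∀ {Y Y'} (k : Y' ⟶ Y) (x : Y ⟶ Red.DS _ (Fin r → ℤ)), Φ (k ≫ x) = (Over.map g).map k ≫ Φ x :=
    fun k x => by simp only [Φ]; rw [Category.assoc, theta_comp]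
  -- the universal pair
  let W : Over S := Over.mk g ⊗ (T ⊗ T)
  let WK : Over (Spec (CommRingCat.of K)) := Over.mk (fst (Over.mk g) (T ⊗ T)).left
  let c : W ≅ (Over.map g).obj WK := Over.isoMk (Iso.refl _) (by
    show 𝟙 _ ≫ (fst (Over.mk g) (T ⊗ T)).left ≫ g = W.hom
    rw [Category.id_comp]
    exact Over.w (fst (Over.mk g) (T ⊗ T)))
  obtain ⟨x₀, hx₀⟩ : ∃ x₀ : WK ⟶ Red.DS _ (Fin r → ℤ), Φ x₀ = c.inv ≫ snd _ _ ≫ fst T T := by
    obtain ⟨a, ha⟩ := (theta_bijective g).2 (c.inv ≫ snd _ _ ≫ fst T T)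
    refine ⟨a ≫ e.hom.hom.hom, ?_⟩
    simp only [Φ, Category.assoc]
    rw [show e.hom.hom.hom ≫ e.inv.hom.hom = 𝟙 _ from congrArg (fun k => k.hom.hom) e.hom_inv_id,
      Category.comp_id, ha]
  obtain ⟨y₀, hy₀⟩ : ∃ y₀ : WK ⟶ Red.DS _ (Fin r → ℤ), Φ y₀ = c.inv ≫ snd _ _ ≫ snd T T := by
    obtain ⟨a, ha⟩ := (theta_bijective g).2 (c.inv ≫ snd _ _ ≫ snd T T)
    refine ⟨a ≫ e.hom.hom.hom, ?_⟩
    simp only [Φ, Category.assoc]
    rw [show e.hom.hom.hom ≫ e.inv.hom.hom = 𝟙 _ from congrArg (fun k => k.hom.hom) e.hom_inv_id,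
      Category.comp_id, ha]
  let M2 := (Fin r → ℤ) × (Fin r → ℤ)
  let j : Spec (CommRingCat.of (MonoidAlgebra K (Multiplicative M2))) ⟶ Spec (CommRingCat.of K) :=
    Spec.map (CommRingCat.ofHom (algebraMap K (MonoidAlgebra K (Multiplicative M2))))
  obtain ⟨π₁, hπ₁⟩ := exists_evB (M := Fin r → ℤ) j ((MonoidAlgebra.of K (Multiplicative M2)).comp
    (AddMonoidHom.toMultiplicative (AddMonoidHom.inl _ _)))
  obtain ⟨π₂, hπ₂⟩ := exists_evB (M := Fin r → ℤ) j ((MonoidAlgebra.of K (Multiplicative M2)).comp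
    (AddMonoidHom.toMultiplicative (AddMonoidHom.inr _ _)))
  let q : (Over.map g).obj (spS j) ⟶ W := lift (Over.homMk j rfl) (lift (Φ π₁) (Φ π₂))
  have hq : q ≫ u = q ≫ v := by
    refine ext_of_evals g _ _ fun χ ⟨n, hn, hχ⟩ => ?_
    let σ : MonoidAlgebra K (Multiplicative M2) →+* K := MonoidAlgebra.lift K K _ ((Units.coeHom K).comp χ)
    have hσj : Spec.map (CommRingCat.ofHom σ) ≫ j = 𝟙 _ := by
      rw [← Spec.map_comp, ← CommRingCat.ofHom_comp, show σ.comp (algebraMap K _) = RingHom.id K from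
        RingHom.ext fun x => (MonoidAlgebra.lift K K _ ((Units.coeHom K).comp χ)).commutes x,
        CommRingCat.ofHom_id, Spec.map_id]
    let s : spS (𝟙 (Spec (CommRingCat.of K))) ⟶ spS j := Over.homMk (Spec.map (CommRingCat.ofHom σ)) hσj
    let c₀ : Over.mk g ≅ (Over.map g).obj (spS (𝟙 (Spec (CommRingCat.of K)))) :=
      Over.isoMk (Iso.refl _) (by show 𝟙 _ ≫ 𝟙 _ ≫ g = g; simp)
    have hval : ∀ (π : spS j ⟶ Red.DS _ (Fin r → ℤ)) (i : Multiplicative (Fin r → ℤ) →* Multiplicative M2),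
        (∀ m, evB π m = MonoidAlgebra.of K _ (i (Multiplicative.ofAdd m))) → (c₀.hom ≫ Φ (s ≫ π)) ^ n = 1 := by
      intro π i hπ
      have h1 : (s ≫ π) ^ n = 1 := evB_ext fun m => by
        rw [evB_pow, evB_comp, hπ, show evB (1 : spS (𝟙 (Spec (CommRingCat.of K))) ⟶ Red.DS _ (Fin r → ℤ)) m = 1 by
          rw [evB, ev_one, map_one],
          show σ (MonoidAlgebra.of K _ (i (Multiplicative.ofAdd m))) = (χ (i (Multiplicative.ofAdd m)) : K) from
            MonoidAlgebra.lift_of _ _, ← Units.val_pow_eq_pow_val]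
        exact congrArg (fun f : Multiplicative M2 →* Kˣ => (f (i (Multiplicative.ofAdd m)) : K)) hχ
      rw [← TorusQI.comp_npow, ← hΦpow, h1, hΦone, MonObj.comp_one]
    have key := h (c₀.hom ≫ Φ (s ≫ π₁)) (c₀.hom ≫ Φ (s ≫ π₂)) n hn (hval π₁ _ hπ₁) (hval π₂ _ hπ₂)
    have e1 : lift (𝟙 _) (lift (c₀.hom ≫ Φ (s ≫ π₁)) (c₀.hom ≫ Φ (s ≫ π₂))) =
        (c₀.hom ≫ (Over.map g).map s) ≫ q := by
      simp only [q, comp_lift, hΦnat, Category.assoc]
      congr 1
      apply Over.OverMorphism.ext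
      show 𝟙 _ = 𝟙 _ ≫ Spec.map (CommRingCat.ofHom σ) ≫ j
      rw [Category.id_comp, hσj]
    rw [e1] at key
    have h2 := congrArg CommaMorphism.left key
    simp only [Category.assoc, Over.comp_left] at h2
    show s.left ≫ (q ≫ u).left = s.left ≫ (q ≫ v).left
    rw [Over.comp_left, Over.comp_left]
    simpa [c₀] using h2
  let χW : Multiplicative M2 →* Γ(WK.left, ⊤) :=
    { toFun := fun m => ev x₀ (Multiplicative.toAdd m).1 * ev y₀ (Multiplicative.toAdd m).2
      map_one' := by simp [ev_zero]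
      map_mul' := fun a b => by
        show ev x₀ ((Multiplicative.toAdd a).1 + (Multiplicative.toAdd b).1) *
          ev y₀ ((Multiplicative.toAdd a).2 + (Multiplicative.toAdd b).2) = _
        rw [ev_add, ev_add]
        exact _root_.mul_mul_mul_comm _ _ _ _ }
  let φ : MonoidAlgebra K (Multiplicative M2) →+* Γ(WK.left, ⊤) := MonoidAlgebra.liftNCRingHom
    ((Scheme.ΓSpecIso (CommRingCat.of K)).inv ≫ WK.hom.appTop).hom χW (fun _ _ => Commute.all _ _)
  have hφa : ∀ k, φ (algebraMap K _ k) = ((Scheme.ΓSpecIso (CommRingCat.of K)).inv ≫ WK.hom.appTop).hom k := fun k => by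
    simp [φ, MonoidAlgebra.liftNCRingHom_single]
  let hL : WK.left ⟶ Spec (CommRingCat.of (MonoidAlgebra K (Multiplicative M2))) :=
    WK.left.toSpecΓ ≫ Spec.map (CommRingCat.ofHom φ)
  have happ : hL.appTop = (Scheme.ΓSpecIso _).hom ≫ CommRingCat.ofHom φ := by
    simp only [hL, Scheme.Hom.comp_appTop, Scheme.toSpecΓ_appTop, Scheme.ΓSpecIso_naturality]
  have hLj : hL ≫ j = WK.hom := ext_of_isAffine (by
    rw [Scheme.Hom.comp_appTop, happ, Scheme.ΓSpecIso_naturality_assoc, ← Iso.eq_inv_comp]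
    ext k
    exact hφa k)
  let hW : WK ⟶ spS j := Over.homMk hL hLj
  have hev : ∀ (π : spS j ⟶ Red.DS _ (Fin r → ℤ)) (m : Fin r → ℤ) (z : M2),
      evB π m = MonoidAlgebra.of K _ (Multiplicative.ofAdd z) →
        ev (hW ≫ π) m = ev x₀ z.1 * ev y₀ z.2 := fun π m z hπ => by
    rw [ev_comp]
    show hL.appTop.hom (ev π m) = _
    rw [happ, CommRingCat.comp_apply]
    show φ (evB π m) = _
    rw [hπ]
    simp [φ, χW, MonoidAlgebra.liftNCRingHom_single]
  have e₁ : hW ≫ π₁ = x₀ := ev_ext fun m => by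
    rw [hev π₁ m (m, 0) (hπ₁ m), ev_zero, _root_.mul_one]
  have e₂ : hW ≫ π₂ = y₀ := ev_ext fun m => by
    rw [hev π₂ m (0, m) (hπ₂ m), ev_zero, _root_.one_mul]
  have hid : c.hom ≫ (Over.map g).map hW ≫ q = 𝟙 W := by
    simp only [q, comp_lift, ← hΦnat, e₁, e₂, hx₀, hy₀, Iso.hom_inv_id_assoc]
    apply CartesianMonoidalCategory.hom_ext
    · rw [lift_fst, Category.id_comp]
      apply Over.OverMorphism.ext
      show 𝟙 _ ≫ hL ≫ j = _
      rw [hLj]
      exact Category.id_comp _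
    · rw [lift_snd, Category.id_comp]
      simp
  calc u = (c.hom ≫ (Over.map g).map hW ≫ q) ≫ u := by rw [hid, Category.id_comp]
    _ = (c.hom ≫ (Over.map g).map hW ≫ q) ≫ v := by simp only [Category.assoc, hq]
    _ = v := by rw [hid, Category.id_comp]

end Groth.Agent.RedCentralExt
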